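import Mathlib
import Groth.Agent.Flat.GenericFree

/-! Exactness of fibres of a sequence of modules. -/

set_option autoImplicit false
set_option backward.isDefEq.respectTransparency false
noncomputable section
universe u
open scoped TensorProduct

namespace Groth.Agent.FibreExact

/-- exactness after base change to `K` -/
def Ex {R M N Q : Type u} [CommRing R] [AddCommGroup M] [Module R M] [AddCommGroup N] [Module R N]
    [AddCommGroup Q] [Module R Q] (u : M →ₗ[R] N) (v : N →ₗ[R] Q) (K : Type u) [CommRing K] [Algebra R K] : Prop :=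
  Function.Exact (u.baseChange K) (v.baseChange K)

section equiv

variable {R M N Q M' N' Q' : Type u} [CommRing R] [AddCommGroup M] [Module R M] [AddCommGroup N] [Module R N]
  [AddCommGroup Q] [Module R Q] [AddCommGroup M'] [Module R M'] [AddCommGroup N'] [Module R N']
  [AddCommGroup Q'] [Module R Q']

theorem ex_of_equiv (u : M →ₗ[R] N) (v : N →ₗ[R] Q) (u' : M' →ₗ[R] N') (v' : N' →ₗ[R] Q')
    (a : M ≃ₗ[R] M') (b : N ≃ₗ[R] N') (c : Q ≃ₗ[R] Q')
    (hu : ∀ x, u' (a x) = b (u x)) (hv : ∀ x, v' (b x) = c (v x)) (K : Type u) [CommRing K] [Algebra R K] :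
    Ex u' v' K ↔ Ex u v K := by
  refine Function.Exact.iff_of_ladder_linearEquiv (e₁ := a.baseChange R K _ _) (e₂ := b.baseChange R K _ _)
    (e₃ := c.baseChange R K _ _) ?_ ?_
  · refine TensorProduct.AlgebraTensorModule.ext fun k x => ?_
    simp [hu]
  · refine TensorProduct.AlgebraTensorModule.ext fun k x => ?_
    simp [hv]

end equiv

section cancel

variable {R A M N Q M' N' Q' : Type u} [CommRing R] [CommRing A] [Algebra R A]
  [AddCommGroup M] [Module R M] [AddCommGroup N] [Module R N] [AddCommGroup Q] [Module R Q]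
  [AddCommGroup M'] [Module R M'] [Module A M'] [IsScalarTower R A M']
  [AddCommGroup N'] [Module R N'] [Module A N'] [IsScalarTower R A N']
  [AddCommGroup Q'] [Module R Q'] [Module A Q'] [IsScalarTower R A Q']

theorem ex_cancel (u : M →ₗ[R] N) (v : N →ₗ[R] Q) (u' : M' →ₗ[A] N') (v' : N' →ₗ[A] Q')
    (a : M →ₗ[R] M') (b : N →ₗ[R] N') (c : Q →ₗ[R] Q')
    (ha : IsBaseChange A a) (hb : IsBaseChange A b) (hc : IsBaseChange A c)
    (hu : ∀ x, u' (a x) = b (u x)) (hv : ∀ x, v' (b x) = c (v x))
    (K : Type u) [CommRing K] [Algebra R K] [Algebra A K] [IsScalarTower R A K] :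
    Ex u' v' K ↔ Ex u v K := by
  have ka := ha.comp (TensorProduct.isBaseChange A M' K)
  have kb := hb.comp (TensorProduct.isBaseChange A N' K)
  have kc := hc.comp (TensorProduct.isBaseChange A Q' K)
  refine Function.Exact.iff_of_ladder_linearEquiv (e₁ := ka.equiv) (e₂ := kb.equiv) (e₃ := kc.equiv) ?_ ?_
  · refine TensorProduct.AlgebraTensorModule.ext fun k x => ?_
    simp [IsBaseChange.equiv_tmul, TensorProduct.smul_tmul', hu]
  · refine TensorProduct.AlgebraTensorModule.ext fun k x => ?_
    simp [IsBaseChange.equiv_tmul, TensorProduct.smul_tmul', hv]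

end cancel

section field

variable {R M N Q : Type u} [CommRing R] [AddCommGroup M] [Module R M] [AddCommGroup N] [Module R N]
  [AddCommGroup Q] [Module R Q]

theorem ex_field_iff (u : M →ₗ[R] N) (v : N →ₗ[R] Q) (K L : Type u) [Field K] [Field L] [Algebra R K]
    [Algebra R L] [Algebra K L] [IsScalarTower R K L] : Ex u v L ↔ Ex u v K := by
  rw [← ex_cancel u v (u.baseChange K) (v.baseChange K) (TensorProduct.mk R K M 1) (TensorProduct.mk R K N 1)
    (TensorProduct.mk R K Q 1) (TensorProduct.isBaseChange R M K) (TensorProduct.isBaseChange R N K)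
    (TensorProduct.isBaseChange R Q K) (fun _ => rfl) (fun _ => rfl) L]
  exact Module.FaithfullyFlat.lTensor_exact_iff_exact K L (u.baseChange K) (v.baseChange K)

end field

section domain

variable {R : Type u} [CommRing R] [IsDomain R]

/-- the two properties of a localisation over which everything is free -/
theorem exists_uniform {S M N : Type u} [CommRing S] [IsNoetherianRing S] [Algebra R S] [Algebra.FiniteType R S]
    [AddCommGroup M] [Module R M] [Module S M] [IsScalarTower R S M] [Module.Finite S M]
    [AddCommGroup N] [Module R N] [Module S N] [IsScalarTower R S N] [Module.Finite S N] (φ : M →ₗ[S] N) :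
    ∃ f : R, f ≠ 0 ∧
      (∀ (K : Type u) [Field K] [Algebra R K], algebraMap R K f ≠ 0 →
        Function.Injective (((LinearMap.range φ).subtype.restrictScalars R).baseChange K)) ∧
      (∀ (K K' : Type u) [Field K] [Algebra R K] [Field K'] [Algebra R K'],
        algebraMap R K f ≠ 0 → algebraMap R K' f ≠ 0 →
        (φ.restrictScalars R).baseChange K = 0 → (φ.restrictScalars R).baseChange K' = 0) := by
  let I := LinearMap.range φ
  obtain ⟨f₁, hf₁, h₁⟩ := Flat.GenericFree.freeAway_of_finite (R := R) S I
  obtain ⟨f₂, hf₂, h₂⟩ := Flat.GenericFree.freeAway_of_finite (R := R) S (N ⧸ I)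
  let f := f₁ * f₂
  let L := Localization.Away f
  have hu : IsUnit (algebraMap R L f) := IsLocalization.Away.algebraMap_isUnit f
  haveI : Module.Free L (L ⊗[R] I) := h₁ L (isUnit_of_dvd_unit (map_dvd _ (dvd_mul_right f₁ f₂)) hu)
  haveI : Module.Free L (L ⊗[R] (N ⧸ I)) := h₂ L (isUnit_of_dvd_unit (map_dvd _ (dvd_mul_left f₂ f₁)) hu)
  haveI : Module.Flat R L := IsLocalization.flat L (Submonoid.powers f)
  let i := I.subtype.restrictScalars R
  let p := I.mkQ.restrictScalars R
  have he : Function.Exact i p := LinearMap.exact_subtype_mkQ I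
  have hi : Function.Injective i := I.injective_subtype
  have hp : Function.Surjective p := I.mkQ_surjective
  have e1 : Function.Exact (i.baseChange L) (p.baseChange L) := lTensor_exact L he hp
  have e2 : Function.Injective (i.baseChange L) :=
    Module.Flat.lTensor_preserves_injective_linearMap (M := L) i hi
  obtain ⟨l, hl⟩ := Module.projective_lifting_property (p.baseChange L) LinearMap.id
    (LinearMap.lTensor_surjective L hp)
  have h01 := (e1.split_tfae e2
    (show Function.Surjective (p.baseChange L) from LinearMap.lTensor_surjective L hp)).out 0 1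
  have hsp : ∃ r, r ∘ₗ i.baseChange L = LinearMap.id := h01.mp ⟨l, hl⟩
  obtain ⟨r, hr⟩ := hsp
  have hinj : ∀ (K : Type u) [Field K] [Algebra R K], algebraMap R K f ≠ 0 →
      Function.Injective (i.baseChange K) := by
    intro K _ _ hK
    letI := (IsLocalization.Away.lift f (isUnit_iff_ne_zero.mpr hK) : L →+* K).toAlgebra
    haveI : IsScalarTower R L K :=
      IsScalarTower.of_algebraMap_eq fun x => (IsLocalization.Away.lift_eq f (isUnit_iff_ne_zero.mpr hK) x).symm
    have h3 : Function.Injective ((i.baseChange L).baseChange K) := fun x y hxy => by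
      have hxy' := congrArg (r.baseChange K) hxy
      rwa [← LinearMap.comp_apply, ← LinearMap.comp_apply, ← LinearMap.baseChange_comp, hr,
        LinearMap.baseChange_id, LinearMap.id_apply, LinearMap.id_apply] at hxy'
    intro x y hxy
    apply (TensorProduct.AlgebraTensorModule.cancelBaseChange R L K K I).symm.injective
    apply h3
    have hnat : ∀ z, (i.baseChange L).baseChange K ((TensorProduct.AlgebraTensorModule.cancelBaseChange R L K K I).symm z) =
        (TensorProduct.AlgebraTensorModule.cancelBaseChange R L K K N).symm (i.baseChange K z) := fun z => by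
      induction z using TensorProduct.induction_on with
      | zero => simp
      | tmul k m => simp
      | add a b ha hb => simp [ha, hb]
    rw [hnat, hnat, hxy]
  refine ⟨f, mul_ne_zero hf₁ hf₂, fun K _ _ hK => hinj K hK, fun K K' _ _ _ _ hK hK' h0 => ?_⟩
  let w := φ.rangeRestrict.restrictScalars R
  have hw : Function.Surjective w := φ.surjective_rangeRestrict
  have hcomp : φ.restrictScalars R = i ∘ₗ w := rfl
  have hsub : Subsingleton (K ⊗[R] I) := by
    refine subsingleton_of_forall_eq 0 fun z => hinj K hK ?_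
    obtain ⟨z', rfl⟩ := LinearMap.lTensor_surjective K hw z
    rw [map_zero]
    rw [hcomp, LinearMap.baseChange_comp] at h0
    exact LinearMap.congr_fun h0 z'
  letI := (IsLocalization.Away.lift f (isUnit_iff_ne_zero.mpr hK) : L →+* K).toAlgebra
  haveI : IsScalarTower R L K :=
    IsScalarTower.of_algebraMap_eq fun x => (IsLocalization.Away.lift_eq f (isUnit_iff_ne_zero.mpr hK) x).symm
  let b := Module.Free.chooseBasis L (L ⊗[R] I)
  haveI : IsEmpty (Module.Free.ChooseBasisIndex L (L ⊗[R] I)) := by
    refine not_nonempty_iff.mp fun ⟨j⟩ => ?_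
    haveI := (TensorProduct.AlgebraTensorModule.cancelBaseChange R L K K I).toEquiv.subsingleton
    exact (b.baseChange K).ne_zero j (Subsingleton.elim _ _)
  haveI : Subsingleton (L ⊗[R] I) := b.repr.toEquiv.subsingleton
  letI := (IsLocalization.Away.lift f (isUnit_iff_ne_zero.mpr hK') : L →+* K').toAlgebra
  haveI : IsScalarTower R L K' :=
    IsScalarTower.of_algebraMap_eq fun x => (IsLocalization.Away.lift_eq f (isUnit_iff_ne_zero.mpr hK') x).symm
  haveI := (TensorProduct.AlgebraTensorModule.cancelBaseChange R L K' K' I).symm.toEquiv.subsingleton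
  rw [hcomp, LinearMap.baseChange_comp, Subsingleton.elim (w.baseChange K') 0, LinearMap.comp_zero]

theorem exists_ex_uniform {S M N Q : Type u} [CommRing S] [IsNoetherianRing S] [Algebra R S] [Algebra.FiniteType R S]
    [AddCommGroup M] [Module R M] [Module S M] [IsScalarTower R S M] [Module.Finite S M]
    [AddCommGroup N] [Module R N] [Module S N] [IsScalarTower R S N] [Module.Finite S N]
    [AddCommGroup Q] [Module R Q] [Module S Q] [IsScalarTower R S Q] [Module.Finite S Q]
    (u : M →ₗ[S] N) (v : N →ₗ[S] Q) :
    ∃ f : R, f ≠ 0 ∧ ∀ (K K' : Type u) [Field K] [Algebra R K] [Field K'] [Algebra R K'],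
      algebraMap R K f ≠ 0 → algebraMap R K' f ≠ 0 →
      Ex (u.restrictScalars R) (v.restrictScalars R) K → Ex (u.restrictScalars R) (v.restrictScalars R) K' := by
  let π := (LinearMap.range u).mkQ
  let ι := (LinearMap.ker v).subtype
  obtain ⟨f₁, hf₁, hinj, -⟩ := exists_uniform (R := R) v
  obtain ⟨f₂, hf₂, -, hz₂⟩ := exists_uniform (R := R) (v ∘ₗ u)
  obtain ⟨f₃, hf₃, -, hz₃⟩ := exists_uniform (R := R) (π ∘ₗ ι)
  refine ⟨f₁ * f₂ * f₃, mul_ne_zero (mul_ne_zero hf₁ hf₂) hf₃, fun K K' _ _ _ _ hK hK' hex => ?_⟩
  simp only [map_mul, ne_eq, mul_eq_zero, not_or] at hK hK'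
  have hu : ∀ (L : Type u) [CommRing L] [Algebra R L],
      Function.Exact ((u.restrictScalars R).baseChange L) ((π.restrictScalars R).baseChange L) := fun L _ _ =>
    lTensor_exact L (show Function.Exact (u.restrictScalars R) (π.restrictScalars R) from
      LinearMap.exact_map_mkQ_range u) (LinearMap.range u).mkQ_surjective
  have hv : ∀ (L : Type u) [Field L] [Algebra R L], algebraMap R L f₁ ≠ 0 →
      Function.Exact ((ι.restrictScalars R).baseChange L) ((v.restrictScalars R).baseChange L) := by
    intro L _ _ hL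
    have h := lTensor_exact (R := R) L (show Function.Exact (ι.restrictScalars R) (v.rangeRestrict.restrictScalars R) from
      LinearMap.exact_iff.mpr (SetLike.ext fun x => by
        simp [ι, LinearMap.mem_ker, Subtype.ext_iff])) v.surjective_rangeRestrict
    intro x
    rw [show (v.restrictScalars R) = ((LinearMap.range v).subtype.restrictScalars R) ∘ₗ (v.rangeRestrict.restrictScalars R) from rfl,
      LinearMap.baseChange_comp, LinearMap.comp_apply, map_eq_zero_iff _ (hinj L hL)]
    exact h x
  have h2 : ((v ∘ₗ u).restrictScalars R).baseChange K' = 0 := by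
    refine hz₂ K K' hK.1.2 hK'.1.2 ?_
    rw [show (v ∘ₗ u).restrictScalars R = v.restrictScalars R ∘ₗ u.restrictScalars R from rfl, LinearMap.baseChange_comp]
    exact hex.linearMap_comp_eq_zero
  have h3 : ((π ∘ₗ ι).restrictScalars R).baseChange K' = 0 := by
    refine hz₃ K K' hK.2 hK'.2 ?_
    rw [show (π ∘ₗ ι).restrictScalars R = π.restrictScalars R ∘ₗ ι.restrictScalars R from rfl, LinearMap.baseChange_comp]
    refine LinearMap.ext fun z => ?_
    exact (hu K _).mpr ((hex _).mp ((hv K hK.1.1 _).mpr ⟨z, rfl⟩))
  intro y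
  constructor
  · intro hy
    obtain ⟨z, rfl⟩ := (hv K' hK'.1.1 y).mp hy
    refine (hu K' _).mp ?_
    have := LinearMap.congr_fun h3 z
    rwa [show (π ∘ₗ ι).restrictScalars R = π.restrictScalars R ∘ₗ ι.restrictScalars R from rfl,
      LinearMap.baseChange_comp] at this
  · rintro ⟨z, rfl⟩
    have := LinearMap.congr_fun h2 z
    rwa [show (v ∘ₗ u).restrictScalars R = v.restrictScalars R ∘ₗ u.restrictScalars R from rfl,
      LinearMap.baseChange_comp] at this

end domain

end Groth.Agent.FibreExact
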