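import Mathlib
import Groth.Agent.FibreExact.Basic
import Groth.Agent.Flat.GlobalModel
import Groth.Agent.FibreDepth.Families

/-! Models of sequences of finitely presented modules over polynomial rings. -/

set_option autoImplicit false
set_option backward.isDefEq.respectTransparency false
noncomputable section
universe u
open scoped TensorProduct
open MvPolynomial

namespace Groth.Agent.FibreExact

open Flat.Descent Flat.OpenLocus

variable {σ : Type} {k₁ k₂ k₃ n₁ n₂ n₃ : ℕ}

/-- the polynomial data of a sequence of two maps -/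
structure Data (σ : Type) (A : Type u) [CommRing A] (k₁ k₂ k₃ n₁ n₂ n₃ : ℕ) where
  g₁ : Fin k₁ → Fin n₁ → MvPolynomial σ A
  g₂ : Fin k₂ → Fin n₂ → MvPolynomial σ A
  g₃ : Fin k₃ → Fin n₃ → MvPolynomial σ A
  U : Fin n₁ → Fin n₂ → MvPolynomial σ A
  V : Fin n₂ → Fin n₃ → MvPolynomial σ A
  c : Fin k₁ → Fin k₂ → MvPolynomial σ A
  d : Fin k₂ → Fin k₃ → MvPolynomial σ A
  hc : ∀ l, ∑ j, g₁ l j • U j = ∑ t, c l t • g₂ t
  hd : ∀ l, ∑ j, g₂ l j • V j = ∑ t, d l t • g₃ t

theorem vmap_lin {A B : Type u} [CommRing A] [CommRing B] (φ : A →+* B) {n m : ℕ}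
    (w : Fin n → MvPolynomial σ A) (W : Fin n → Fin m → MvPolynomial σ A) :
    vmap φ (∑ j, w j • W j) = ∑ j, MvPolynomial.map φ (w j) • vmap φ (W j) := by
  funext i
  simp [vmap, Finset.sum_apply, map_sum, map_mul]

/-- the map of cokernels given by a matrix -/
def coMap {A : Type u} [CommRing A] {k l n m : ℕ} (g : Fin k → Fin n → MvPolynomial σ A)
    (h : Fin l → Fin m → MvPolynomial σ A) (U : Fin n → Fin m → MvPolynomial σ A)
    (c : Fin k → Fin l → MvPolynomial σ A) (hc : ∀ i, ∑ j, g i j • U j = ∑ t, c i t • h t) :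
    Coker g →ₗ[MvPolynomial σ A] Coker h :=
  (Submodule.span (MvPolynomial σ A) (Set.range g)).liftQ
    ((Submodule.span (MvPolynomial σ A) (Set.range h)).mkQ ∘ₗ Fintype.linearCombination (MvPolynomial σ A) U)
    (Submodule.span_le.mpr (Set.range_subset_iff.mpr fun i => by
      show Submodule.mkQ _ (Fintype.linearCombination (MvPolynomial σ A) U (g i)) = 0
      rw [Fintype.linearCombination_apply, hc, Submodule.mkQ_apply, Submodule.Quotient.mk_eq_zero]
      exact sum_mem fun t _ => Submodule.smul_mem _ _ (Submodule.subset_span ⟨t, rfl⟩)))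

theorem coMap_mk {A : Type u} [CommRing A] {k l n m : ℕ} (g : Fin k → Fin n → MvPolynomial σ A)
    (h : Fin l → Fin m → MvPolynomial σ A) (U : Fin n → Fin m → MvPolynomial σ A)
    (c : Fin k → Fin l → MvPolynomial σ A) (hc : ∀ i, ∑ j, g i j • U j = ∑ t, c i t • h t)
    (v : Fin n → MvPolynomial σ A) :
    coMap g h U c hc (Submodule.Quotient.mk v) = Submodule.Quotient.mk (∑ j, v j • U j) := by
  show Submodule.Quotient.mk (Fintype.linearCombination (MvPolynomial σ A) U v) = _
  rw [Fintype.linearCombination_apply]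

variable {A B : Type u} [CommRing A] [CommRing B] (D : Data σ A k₁ k₂ k₃ n₁ n₂ n₃)

/-- the first map -/
def Data.u : Coker D.g₁ →ₗ[MvPolynomial σ A] Coker D.g₂ := coMap _ _ D.U D.c D.hc

/-- the second map -/
def Data.v : Coker D.g₂ →ₗ[MvPolynomial σ A] Coker D.g₃ := coMap _ _ D.V D.d D.hd

/-- change of coefficients -/
def Data.map (φ : A →+* B) : Data σ B k₁ k₂ k₃ n₁ n₂ n₃ where
  g₁ := fun l => vmap φ (D.g₁ l)
  g₂ := fun l => vmap φ (D.g₂ l)
  g₃ := fun l => vmap φ (D.g₃ l)
  U := fun l => vmap φ (D.U l)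
  V := fun l => vmap φ (D.V l)
  c := fun l => vmap φ (D.c l)
  d := fun l => vmap φ (D.d l)
  hc := fun l => by
    have h := congrArg (vmap φ) (D.hc l)
    rw [vmap_lin, vmap_lin] at h
    exact h
  hd := fun l => by
    have h := congrArg (vmap φ) (D.hd l)
    rw [vmap_lin, vmap_lin] at h
    exact h

/-- exactness at `K` -/
def Data.ExAt (K : Type u) [CommRing K] [Algebra A K] : Prop :=
  Ex (D.u.restrictScalars A) (D.v.restrictScalars A) K

theorem Data.exAt_map [Algebra A B] (K : Type u) [CommRing K] [Algebra A K] [Algebra B K] [IsScalarTower A B K] :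
    (D.map (algebraMap A B)).ExAt K ↔ D.ExAt K := by
  let D' := D.map (algebraMap A B)
  refine ex_cancel (D.u.restrictScalars A) (D.v.restrictScalars A) (D'.u.restrictScalars B) (D'.v.restrictScalars B)
    (cokerMap D.g₁ D'.g₁ fun _ => rfl) (cokerMap D.g₂ D'.g₂ fun _ => rfl) (cokerMap D.g₃ D'.g₃ fun _ => rfl)
    (isBaseChange_cokerMap _ _ _) (isBaseChange_cokerMap _ _ _) (isBaseChange_cokerMap _ _ _) ?_ ?_ K
  · intro x
    obtain ⟨v, rfl⟩ := Submodule.mkQ_surjective _ x
    show coMap _ _ D'.U D'.c D'.hc (cokerMap _ _ _ (Submodule.Quotient.mk v)) = cokerMap _ _ _ (coMap _ _ D.U D.c D.hc (Submodule.Quotient.mk v))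
    rw [cokerMap_mk, coMap_mk, coMap_mk, cokerMap_mk, vmap_lin]
    rfl
  · intro x
    obtain ⟨v, rfl⟩ := Submodule.mkQ_surjective _ x
    show coMap _ _ D'.V D'.d D'.hd (cokerMap _ _ _ (Submodule.Quotient.mk v)) = cokerMap _ _ _ (coMap _ _ D.V D.d D.hd (Submodule.Quotient.mk v))
    rw [cokerMap_mk, coMap_mk, coMap_mk, cokerMap_mk, vmap_lin]
    rfl

theorem Data.exAt_residue (p : Ideal A) [p.IsPrime] (K : Type u) [Field K] [Algebra A K]
    (hK : RingHom.ker (algebraMap A K) = p) : D.ExAt K ↔ D.ExAt p.ResidueField := by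
  let g : A ⧸ p →+* K := Ideal.Quotient.lift p (algebraMap A K) (fun a ha => by rw [← RingHom.mem_ker, hK]; exact ha)
  have hg : Function.Injective g := RingHom.lift_injective_of_ker_le_ideal _ _ hK.le
  letI := (IsFractionRing.lift (K := p.ResidueField) hg).toAlgebra
  haveI : IsScalarTower A p.ResidueField K := IsScalarTower.of_algebraMap_eq fun a => by
    rw [IsScalarTower.algebraMap_apply A (A ⧸ p) p.ResidueField]
    exact (IsFractionRing.lift_algebraMap (K := p.ResidueField) hg (Ideal.Quotient.mk p a)).symm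
  exact ex_field_iff _ _ p.ResidueField K

variable [IsNoetherianRing A] [Finite σ]

theorem Data.exists_uniform (p : Ideal A) [p.IsPrime] : ∃ f : A, f ∉ p ∧ ∀ (K K' : Type u) [Field K] [Algebra A K]
    [Field K'] [Algebra A K'], p ≤ RingHom.ker (algebraMap A K) → p ≤ RingHom.ker (algebraMap A K') →
    algebraMap A K f ≠ 0 → algebraMap A K' f ≠ 0 → D.ExAt K → D.ExAt K' := by
  let D' := D.map (algebraMap A (A ⧸ p))
  obtain ⟨f', hf', hun⟩ := exists_ex_uniform (R := A ⧸ p) D'.u D'.v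
  obtain ⟨f, rfl⟩ := Ideal.Quotient.mk_surjective f'
  refine ⟨f, fun h => hf' (Ideal.Quotient.eq_zero_iff_mem.mpr h), ?_⟩
  intro K K' _ _ _ _ hK hK' hf hf'' hex
  letI := (Ideal.Quotient.lift p (algebraMap A K) hK).toAlgebra
  letI := (Ideal.Quotient.lift p (algebraMap A K') hK').toAlgebra
  haveI : IsScalarTower A (A ⧸ p) K := IsScalarTower.of_algebraMap_eq fun _ => rfl
  haveI : IsScalarTower A (A ⧸ p) K' := IsScalarTower.of_algebraMap_eq fun _ => rfl
  exact (D.exAt_map K').mp (hun K K' hf hf'' ((D.exAt_map K).mpr hex))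

theorem Data.isConstructible : Topology.IsConstructible {q : PrimeSpectrum A | D.ExAt q.asIdeal.ResidueField} := by
  suffices h : ∀ I : Ideal A,
      Topology.IsConstructible ({q : PrimeSpectrum A | D.ExAt q.asIdeal.ResidueField} ∩ PrimeSpectrum.zeroLocus I) by
    simpa using h ⊥
  intro I
  induction I using WellFoundedGT.induction with
  | _ I ih =>
  by_cases hI : I.IsPrime
  · obtain ⟨f, hf, hun⟩ := D.exists_uniform I
    have h1 := ih _ (left_lt_sup.mpr fun h => hf (h (Ideal.mem_span_singleton_self f)))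
    have hker : ∀ q : PrimeSpectrum A, (I : Set A) ⊆ q.asIdeal → f ∉ q.asIdeal →
        I ≤ RingHom.ker (algebraMap A q.asIdeal.ResidueField) ∧ algebraMap A q.asIdeal.ResidueField f ≠ 0 :=
      fun q hq hfq => ⟨fun a ha => Ideal.algebraMap_residueField_eq_zero.mpr (hq ha),
        fun h => hfq (Ideal.algebraMap_residueField_eq_zero.mp h)⟩
    have h2 : ({q : PrimeSpectrum A | D.ExAt q.asIdeal.ResidueField} ∩ PrimeSpectrum.zeroLocus I) =
        {q : PrimeSpectrum A | D.ExAt I.ResidueField ∧ (I : Set A) ⊆ q.asIdeal ∧ f ∉ q.asIdeal} ∪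
        ({q : PrimeSpectrum A | D.ExAt q.asIdeal.ResidueField} ∩ PrimeSpectrum.zeroLocus ↑(I ⊔ Ideal.span {f})) := by
      ext q
      have hsup : ((I ⊔ Ideal.span {f} : Ideal A) : Set A) ⊆ q.asIdeal ↔ (I : Set A) ⊆ q.asIdeal ∧ f ∈ q.asIdeal := by
        simp [SetLike.coe_subset_coe, Ideal.span_singleton_le_iff_mem]
      simp only [Set.mem_inter_iff, Set.mem_union, Set.mem_setOf_eq, PrimeSpectrum.mem_zeroLocus, hsup]
      have hIk : I ≤ RingHom.ker (algebraMap A I.ResidueField) ∧ algebraMap A I.ResidueField f ≠ 0 :=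
        hker ⟨I, hI⟩ subset_rfl hf
      constructor
      · rintro ⟨hq, hle⟩
        by_cases hfq : f ∈ q.asIdeal
        · exact Or.inr ⟨hq, hle, hfq⟩
        · exact Or.inl ⟨hun _ _ (hker q hle hfq).1 hIk.1 (hker q hle hfq).2 hIk.2 hq, hle, hfq⟩
      · rintro (⟨hq, hle, hfq⟩ | ⟨hq, hle, -⟩)
        · exact ⟨hun _ _ hIk.1 (hker q hle hfq).1 hIk.2 (hker q hle hfq).2 hq, hle⟩
        · exact ⟨hq, hle⟩
    rw [h2]
    refine Topology.IsConstructible.union ?_ h1
    by_cases he : D.ExAt I.ResidueField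
    · have : {q : PrimeSpectrum A | D.ExAt I.ResidueField ∧ (I : Set A) ⊆ q.asIdeal ∧ f ∉ q.asIdeal} =
          PrimeSpectrum.zeroLocus (I : Set A) ∩ PrimeSpectrum.basicOpen f := by
        ext q; simp [he, PrimeSpectrum.mem_zeroLocus]
      rw [this]
      exact (FibreDepth.Families.isConstructible_of_isClosed (PrimeSpectrum.isClosed_zeroLocus _)).inter
        PrimeSpectrum.isConstructible_basicOpen
    · simp [he]
  · by_cases htop : I = ⊤
    · simp [htop]
    · have h2 : PrimeSpectrum.zeroLocus (I : Set A) = ⋃ P ∈ I.minimalPrimes, PrimeSpectrum.zeroLocus (P : Set A) := by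
        ext q
        simp only [Set.mem_iUnion, PrimeSpectrum.mem_zeroLocus, exists_prop]
        exact ⟨fun h => (Ideal.exists_minimalPrimes_le (show I ≤ q.asIdeal from h)).imp fun P hP => ⟨hP.1, hP.2⟩,
          fun ⟨P, hP, hle⟩ => fun a ha => hle (hP.1.2 ha)⟩
      rw [h2, Set.inter_iUnion₂]
      exact Topology.IsConstructible.biUnion (I.finite_minimalPrimes_of_isNoetherianRing A) fun P hP =>
        ih P (lt_of_le_of_ne hP.1.2 fun h => hI (h ▸ hP.1.1))

omit [IsNoetherianRing A] in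
theorem Data.exists_descent : ∃ (T : Finset A) (D₀ : Data σ (adj T) k₁ k₂ k₃ n₁ n₂ n₃),
    D₀.map (algebraMap (adj T) A) = D := by
  let v : ((Fin k₁ × Fin n₁ ⊕ Fin k₂ × Fin n₂) ⊕ (Fin k₃ × Fin n₃ ⊕ Fin n₁ × Fin n₂)) ⊕
      ((Fin n₂ × Fin n₃ ⊕ Fin k₁ × Fin k₂) ⊕ Fin k₂ × Fin k₃) → MvPolynomial σ A :=
    Sum.elim (Sum.elim (Sum.elim (fun x => D.g₁ x.1 x.2) (fun x => D.g₂ x.1 x.2))
      (Sum.elim (fun x => D.g₃ x.1 x.2) (fun x => D.U x.1 x.2)))
      (Sum.elim (Sum.elim (fun x => D.V x.1 x.2) (fun x => D.c x.1 x.2)) (fun x => D.d x.1 x.2))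
  obtain ⟨T, hT⟩ := exists_adjoin_vec v
  obtain ⟨w, hw⟩ := hT T subset_rfl
  let φ := algebraMap (adj T) A
  have hinj : Function.Injective φ := Subtype.val_injective
  let g₁ := fun l j => w (Sum.inl (Sum.inl (Sum.inl (l, j))))
  let g₂ := fun l j => w (Sum.inl (Sum.inl (Sum.inr (l, j))))
  let g₃ := fun l j => w (Sum.inl (Sum.inr (Sum.inl (l, j))))
  let U := fun l j => w (Sum.inl (Sum.inr (Sum.inr (l, j))))
  let V := fun l j => w (Sum.inr (Sum.inl (Sum.inl (l, j))))
  let c := fun l j => w (Sum.inr (Sum.inl (Sum.inr (l, j))))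
  let d := fun l j => w (Sum.inr (Sum.inr (l, j)))
  have e₁ : ∀ l, vmap φ (g₁ l) = D.g₁ l := fun l => funext fun j => congrFun hw _
  have e₂ : ∀ l, vmap φ (g₂ l) = D.g₂ l := fun l => funext fun j => congrFun hw _
  have e₃ : ∀ l, vmap φ (g₃ l) = D.g₃ l := fun l => funext fun j => congrFun hw _
  have eU : ∀ l, vmap φ (U l) = D.U l := fun l => funext fun j => congrFun hw _
  have eV : ∀ l, vmap φ (V l) = D.V l := fun l => funext fun j => congrFun hw _
  have ec : ∀ l, vmap φ (c l) = D.c l := fun l => funext fun j => congrFun hw _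
  have ed : ∀ l, vmap φ (d l) = D.d l := fun l => funext fun j => congrFun hw _
  refine ⟨T, ⟨g₁, g₂, g₃, U, V, c, d, fun l => vmap_injective hinj ?_, fun l => vmap_injective hinj ?_⟩, ?_⟩
  · rw [vmap_lin, vmap_lin]
    simp only [show ∀ j, MvPolynomial.map φ (g₁ l j) = D.g₁ l j from congrFun (e₁ l),
      show ∀ t, MvPolynomial.map φ (c l t) = D.c l t from congrFun (ec l), eU, e₂]
    exact D.hc l
  · rw [vmap_lin, vmap_lin]
    simp only [show ∀ j, MvPolynomial.map φ (g₂ l j) = D.g₂ l j from congrFun (e₂ l),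
      show ∀ t, MvPolynomial.map φ (d l t) = D.d l t from congrFun (ed l), eV, e₃]
    exact D.hd l
  · obtain ⟨⟩ := D
    simp only [Data.map, Data.mk.injEq]
    exact ⟨funext e₁, funext e₂, funext e₃, funext eU, funext eV, funext ec, funext ed⟩

end Groth.Agent.FibreExact
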