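import Groth.Agent.FibreExact.Model
import Groth.Agent.FibreDepth.Strata

/-! Constructibility of exactness of fibres. -/

set_option autoImplicit false
set_option backward.isDefEq.respectTransparency false
noncomputable section
universe u
open scoped TensorProduct

namespace Groth.Agent.FibreExact

open Flat.Descent Flat.OpenLocus

variable {R B : Type u} [CommRing R] [CommRing B] [Algebra R B] [Algebra.FinitePresentation R B]
  {F G H : Type u} [AddCommGroup F] [Module B F] [Module R F] [IsScalarTower R B F] [Module.FinitePresentation B F]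
  [AddCommGroup G] [Module B G] [Module R G] [IsScalarTower R B G] [Module.FinitePresentation B G]
  [AddCommGroup H] [Module B H] [Module R H] [IsScalarTower R B H] [Module.FinitePresentation B H]

theorem exists_data (u : F →ₗ[B] G) (v : G →ₗ[B] H) :
    ∃ (N k₁ k₂ k₃ n₁ n₂ n₃ : ℕ) (D : Data (Fin N) R k₁ k₂ k₃ n₁ n₂ n₃), ∀ (K : Type u) [CommRing K] [Algebra R K],
      Ex (u.restrictScalars R) (v.restrictScalars R) K ↔ D.ExAt K := by
  obtain ⟨N, π, hπ, hker⟩ := (inferInstance : Algebra.FinitePresentation R B).out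
  let P := MvPolynomial (Fin N) R
  letI : Algebra P B := π.toRingHom.toAlgebra
  haveI : IsScalarTower R P B := IsScalarTower.of_algebraMap_eq fun r => (π.commutes r).symm
  haveI : Module.FinitePresentation P B :=
    Module.finitePresentation_of_surjective (Algebra.linearMap P B) hπ hker
  letI : Module P F := Module.compHom F π.toRingHom
  letI : Module P G := Module.compHom G π.toRingHom
  letI : Module P H := Module.compHom H π.toRingHom
  haveI : IsScalarTower P B F := IsScalarTower.of_algebraMap_smul fun _ _ => rfl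
  haveI : IsScalarTower P B G := IsScalarTower.of_algebraMap_smul fun _ _ => rfl
  haveI : IsScalarTower P B H := IsScalarTower.of_algebraMap_smul fun _ _ => rfl
  haveI : IsScalarTower R P F := IsScalarTower.of_algebraMap_smul fun r z => by
    show π (algebraMap R _ r) • z = _
    rw [π.commutes, algebraMap_smul]
  haveI : IsScalarTower R P G := IsScalarTower.of_algebraMap_smul fun r z => by
    show π (algebraMap R _ r) • z = _
    rw [π.commutes, algebraMap_smul]
  haveI : IsScalarTower R P H := IsScalarTower.of_algebraMap_smul fun r z => by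
    show π (algebraMap R _ r) • z = _
    rw [π.commutes, algebraMap_smul]
  haveI : Module.FinitePresentation P F := Module.FinitePresentation.trans (R := P) (M := F) B
  haveI : Module.FinitePresentation P G := Module.FinitePresentation.trans (R := P) (M := G) B
  haveI : Module.FinitePresentation P H := Module.FinitePresentation.trans (R := P) (M := H) B
  obtain ⟨n₁, K₁, e₁, hK₁⟩ := Module.FinitePresentation.exists_fin P F
  obtain ⟨k₁, g₁, rfl⟩ := Submodule.fg_iff_exists_fin_generating_family.mp hK₁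
  obtain ⟨n₂, K₂, e₂, hK₂⟩ := Module.FinitePresentation.exists_fin P G
  obtain ⟨k₂, g₂, rfl⟩ := Submodule.fg_iff_exists_fin_generating_family.mp hK₂
  obtain ⟨n₃, K₃, e₃, hK₃⟩ := Module.FinitePresentation.exists_fin P H
  obtain ⟨k₃, g₃, rfl⟩ := Submodule.fg_iff_exists_fin_generating_family.mp hK₃
  have key : ∀ {k l n m : ℕ} (g : Fin k → Fin n → P) (h : Fin l → Fin m → P) (w : Coker g →ₗ[P] Coker h),
      ∃ (U : Fin n → Fin m → P) (c : Fin k → Fin l → P) (hc : ∀ i, ∑ j, g i j • U j = ∑ t, c i t • h t),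
        coMap g h U c hc = w := by
    intro k l n m g h w
    classical
    choose U hU using fun j => Submodule.mkQ_surjective _ (w (Submodule.Quotient.mk (Pi.single j 1)))
    have hlin : ∀ x, Submodule.Quotient.mk (∑ j, x j • U j) = w (Submodule.Quotient.mk x) := by
      intro x
      conv_rhs => rw [pi_eq_sum_univ' x]
      rw [← Submodule.mkQ_apply, map_sum, ← Submodule.mkQ_apply, map_sum, map_sum]
      refine Finset.sum_congr rfl fun j _ => ?_
      rw [map_smul, map_smul, map_smul, hU]
      rfl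
    have hmem : ∀ i, ∃ c : Fin l → P, ∑ t, c t • h t = ∑ j, g i j • U j := fun i => by
      refine (Submodule.mem_span_range_iff_exists_fun P).mp ((Submodule.Quotient.mk_eq_zero _).mp ?_)
      rw [hlin, (Submodule.Quotient.mk_eq_zero _).mpr (Submodule.subset_span (Set.mem_range_self i)), map_zero]
    choose c hc using hmem
    refine ⟨U, c, fun i => (hc i).symm, ?_⟩
    refine Submodule.linearMap_qext _ (LinearMap.ext fun x => ?_)
    show coMap g h U c (fun i => (hc i).symm) (Submodule.Quotient.mk x) = w (Submodule.Quotient.mk x)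
    rw [coMap_mk, hlin]
  let u' : Coker g₁ →ₗ[P] Coker g₂ := e₂.toLinearMap ∘ₗ u.restrictScalars P ∘ₗ e₁.symm.toLinearMap
  let v' : Coker g₂ →ₗ[P] Coker g₃ := e₃.toLinearMap ∘ₗ v.restrictScalars P ∘ₗ e₂.symm.toLinearMap
  obtain ⟨U, c, hc, hu'⟩ := key g₁ g₂ u'
  obtain ⟨V, d, hd, hv'⟩ := key g₂ g₃ v'
  refine ⟨N, k₁, k₂, k₃, n₁, n₂, n₃, ⟨g₁, g₂, g₃, U, V, c, d, hc, hd⟩, fun K _ _ => ?_⟩
  refine (ex_of_equiv _ _ _ _ (e₁.restrictScalars R) (e₂.restrictScalars R) (e₃.restrictScalars R) ?_ ?_ K).symm
  · intro x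
    show coMap g₁ g₂ U c hc (e₁ x) = e₂ (u x)
    rw [hu']
    show e₂ (u (e₁.symm (e₁ x))) = e₂ (u x)
    rw [LinearEquiv.symm_apply_apply]
  · intro x
    show coMap g₂ g₃ V d hd (e₂ x) = e₃ (v x)
    rw [hv']
    show e₃ (v (e₂.symm (e₂ x))) = e₃ (v x)
    rw [LinearEquiv.symm_apply_apply]

theorem isConstructible_exact (u : F →ₗ[B] G) (v : G →ₗ[B] H) :
    Topology.IsConstructible {p : PrimeSpectrum R | Ex (u.restrictScalars R) (v.restrictScalars R) p.asIdeal.ResidueField} := by
  obtain ⟨N, k₁, k₂, k₃, n₁, n₂, n₃, D, hD⟩ := exists_data (R := R) u v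
  obtain ⟨T, D₀, rfl⟩ := D.exists_descent
  haveI := adj_isNoetherianRing T
  refine (congrArg Topology.IsConstructible (Set.ext fun p => ?_)).mpr
    (FibreDepth.Strata.isConstructible_comap (algebraMap (adj T) R) D₀.isConstructible)
  show _ ↔ D₀.ExAt (p.asIdeal.comap (algebraMap (adj T) R)).ResidueField
  rw [Set.mem_setOf_eq, hD, D₀.exAt_map p.asIdeal.ResidueField]
  refine D₀.exAt_residue (p.asIdeal.comap (algebraMap (adj T) R)) p.asIdeal.ResidueField ?_
  rw [IsScalarTower.algebraMap_eq (adj T) R p.asIdeal.ResidueField, ← RingHom.comap_ker,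
    Ideal.ker_algebraMap_residueField]

theorem exists_nhd_exact [IsDomain R] (u : F →ₗ[B] G) (v : G →ₗ[B] H)
    (hgen : Ex (u.restrictScalars R) (v.restrictScalars R) (FractionRing R)) :
    ∃ f : R, f ≠ 0 ∧ ∀ p : PrimeSpectrum R, f ∉ p.asIdeal →
      Ex (u.restrictScalars R) (v.restrictScalars R) p.asIdeal.ResidueField := by
  obtain ⟨N, k₁, k₂, k₃, n₁, n₂, n₃, D, hD⟩ := exists_data (R := R) u v
  obtain ⟨T, D₀, rfl⟩ := D.exists_descent
  haveI := adj_isNoetherianRing T
  obtain ⟨f, hf, hun⟩ := D₀.exists_uniform ⊥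
  have hf0 : algebraMap (adj T) R f ≠ 0 := fun h => hf (show f ∈ (⊥ : Ideal (adj T)) from Subtype.ext h)
  refine ⟨algebraMap (adj T) R f, hf0, fun p hp => ?_⟩
  refine (hD _).mpr ((D₀.exAt_map _).mpr (hun _ _ bot_le bot_le ?_ ?_ ((D₀.exAt_map _).mp ((hD _).mp hgen))))
  · rw [IsScalarTower.algebraMap_apply (adj T) R (FractionRing R)]
    exact (map_ne_zero_iff _ (IsFractionRing.injective R (FractionRing R))).mpr hf0
  · rw [IsScalarTower.algebraMap_apply (adj T) R p.asIdeal.ResidueField]
    exact fun h => hp (Ideal.algebraMap_residueField_eq_zero.mp h)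

end Groth.Agent.FibreExact
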